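import Cfsg.Agent.H226.Tall.Gen
import Cfsg.Agent.H235.StdTwo
import Cfsg.Agent.SignalizersComponents.ComponentExists

/-!
# S2927: `Co₃` (helper176)
-/

set_option autoImplicit false

namespace Cfsg.Agent.H176.Tall.CoThree

open Subgroup Cfsg
open Cfsg.Agent.H226.Tall
open Cfsg.Agent.H239.CharPLocal (CP)
open Cfsg.Agent.Lib.Cores

/-- a quasisimple group is not of characteristic 2 -/
theorem not_cp_of_quasi {Q : Type*} [Group Q] [Finite Q] (hQ : IsQuasisimple Q) : ¬ CP 2 Q := by
  intro hcp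
  have hp2 : Fact (Nat.Prime 2) := ⟨Nat.prime_two⟩
  have hN : (pCore 2 Q).Normal := inferInstance
  have hPg : IsPGroup 2 ↥(pCore 2 Q) := pCore_isPGroup 2
  have hs : Group.IsSolvable ↥(pCore 2 Q) := by
    have := hPg.isNilpotent
    infer_instance
  have hle : pCore 2 Q ≤ center Q := by
    have := hQ.2
    have hNm : ((pCore 2 Q).map (QuotientGroup.mk' (center Q))).Normal :=
      hN.map _ (QuotientGroup.mk'_surjective _)
    rcases hNm.eq_bot_or_eq_top with h | h
    · intro x hx
      have h1 : QuotientGroup.mk' (center Q) x ∈ (pCore 2 Q).map (QuotientGroup.mk' (center Q)) := mem_map_of_mem _ hx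
      rw [h, mem_bot] at h1
      exact (QuotientGroup.eq_one_iff _).1 h1
    · exfalso
      apply SignalizersComponents.ComponentExists.not_isSolvable_of_isQuasisimple hQ
      have h1 : Group.IsSolvable ((pCore 2 Q).map (QuotientGroup.mk' (center Q))) :=
        Group.isSolvable_of_surjective (f := (QuotientGroup.mk' (center Q)).subgroupMap (pCore 2 Q))
          ((QuotientGroup.mk' (center Q)).subgroupMap_surjective (pCore 2 Q))
      rw [h] at h1
      have h2 : Group.IsSolvable (Q ⧸ center Q) :=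
        Group.isSolvable_of_surjective (f := (⊤ : Subgroup (Q ⧸ center Q)).subtype) (fun x => ⟨⟨x, trivial⟩, rfl⟩)
      have h3 : Group.IsSolvable (center Q) :=
        Group.isSolvable_of_comm (fun a b => Subtype.ext ((mem_center_iff.1 b.2 a.1)))
      rw [Group.isSolvable_iff_subgroup_quotient (center Q)]
      exact ⟨h3, h2⟩
  -- then `Q` is a 2-group
  have htop : pCore 2 Q = ⊤ := by
    rw [eq_top_iff]
    refine le_trans ?_ hcp
    intro x _
    rw [mem_centralizer_iff]
    intro y hy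
    exact (mem_center_iff.1 (hle hy) x).symm
  apply SignalizersComponents.ComponentExists.not_isSolvable_of_isQuasisimple hQ
  rw [htop] at hs
  exact Group.isSolvable_of_surjective (f := (⊤ : Subgroup Q).subtype) (fun x => ⟨⟨x, trivial⟩, rfl⟩)

/-- if some Sylow 2-subgroup has only one central involution `Z` then every 2-central involution is conjugate to `Z` -/
theorem exists_conj {K : Type*} [Group K] [Finite K] {Z : K} (S : Sylow 2 K)
    (hS : ∀ y ∈ S, (∀ x ∈ S, x * y = y * x) → y = 1 ∨ y = Z) {z : K} (hz : TwoC z) : ∃ k : K, k * z * k⁻¹ = Z := by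
  have hp2 : Fact (Nat.Prime 2) := ⟨Nat.prime_two⟩
  obtain ⟨ho, P, hP⟩ := hz
  obtain ⟨k, hk⟩ := MulAction.exists_smul_eq K P S
  refine ⟨k, ?_⟩
  have hcomm : ∀ x ∈ S, x * (k * z * k⁻¹) = (k * z * k⁻¹) * x := by
    intro x hx
    have hx' : x ∈ (S : Subgroup K) := hx
    rw [← hk, Sylow.coe_subgroup_smul, Subgroup.mem_pointwise_smul_iff_inv_smul_mem] at hx'
    have h5 := mem_centralizer_singleton_iff.1 (hP hx')
    simp only [MulAut.smul_def, ← map_inv, MulAut.conj_apply, inv_inv] at h5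
    have h6 := congrArg (fun w => k * w * k⁻¹) h5
    have e1 : k * (k⁻¹ * x * k * z) * k⁻¹ = x * (k * z * k⁻¹) := by group
    have e2 : k * (z * (k⁻¹ * x * k)) * k⁻¹ = (k * z * k⁻¹) * x := by group
    simp only [e1, e2] at h6
    exact h6
  -- a 2-element centralising `S` lies in `S`
  have hmem : k * z * k⁻¹ ∈ S := by
    have h1 : IsPGroup 2 ↥(zpowers (k * z * k⁻¹)) := by
      have h2 : orderOf (k * z * k⁻¹) = 2 := by rw [← ho]; exact MulEquiv.orderOf_eq (MulAut.conj k) z
      refine IsPGroup.of_card (n := 1) ?_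
      rw [Nat.card_zpowers, h2, pow_one]
    have h3 : zpowers (k * z * k⁻¹) ≤ normalizer ((S : Subgroup K) : Set K) := by
      rw [zpowers_le]
      apply centralizer_le_normalizer
      rw [mem_centralizer_iff]
      exact hcomm
    have h4 : IsPGroup 2 ↥(zpowers (k * z * k⁻¹) ⊔ (S : Subgroup K) : Subgroup K) :=
      IsPGroup.to_sup_of_normal_right' h1 S.isPGroup' h3
    have h5 := S.is_maximal' h4 le_sup_right
    have h6 : k * z * k⁻¹ ∈ (zpowers (k * z * k⁻¹) ⊔ (S : Subgroup K) : Subgroup K) :=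
      mem_sup_left (mem_zpowers _)
    rw [h5] at h6
    exact h6
  rcases hS _ hmem hcomm with h | h
  · exfalso
    have h2 : z = 1 := by
      have h3 : k⁻¹ * (k * z * k⁻¹) * k = 1 := by rw [h]; group
      rwa [show k⁻¹ * (k * z * k⁻¹) * k = z by group] at h3
    rw [h2, orderOf_one] at ho
    omega
  · exact h

/-- transport of `CP 2 C(z)` along conjugation -/
theorem cp_conj {K : Type*} [Group K] {z : K} (k : K) (h : CP 2 ↥(centralizer ({z} : Set K))) :
    CP 2 ↥(centralizer ({k * z * k⁻¹} : Set K)) :=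
  (cp_cent_iff (MulAut.conj k) z).1 h

section Co3

open Cfsg.Agent.SporRec.TwoSp6.Model Cfsg.Agent.SporRec.Co3.Model Cfsg.Agent.SporRec.Co3.Ident
open Cfsg.Agent.SporRec.Co3.Chain Cfsg.Agent.SporRec.Co3.ChainData Cfsg.Agent.KFacts.Co3.Cent
  Cfsg.Agent.KFacts.Co3.Syl

theorem notCP_model : NotCP G3 := by
  have hfin := KFacts.Co3.Syl.finite_G3
  intro z hz hcp
  obtain ⟨S, _, _, hS⟩ := syl
  obtain ⟨k, hk⟩ := exists_conj S hS hz
  have h1 := cp_conj k hcp
  rw [hk] at h1
  obtain ⟨π, N⟩ := KFacts.Co3D4.exists_NS_G3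
  exact not_cp_of_quasi (CTwoTab.Co3.quasi_of_NS N) h1

/-- **`Co₃`** -/
theorem notCP_co3 {K : Type*} [Group K] (h : Spor.IsoCo3 K) : NotCP K := by
  obtain ⟨e⟩ := h
  have hfin := KFacts.Co3.Syl.finite_G3
  exact notCP_model.congr (equivCo3.trans e.symm)

end Co3

end Cfsg.Agent.H176.Tall.CoThree
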