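import Cfsg.Agent.H176.Tall.Four
import Cfsg.Agent.H155.Unit

/-!
# S2927: `PSU₄(3)` (helper176)
-/

set_option autoImplicit false

namespace Cfsg.Agent.H176.Tall

open Subgroup Cfsg Matrix
open Cfsg.Agent.H226.Tall

section uni

variable {F : Type*} [Field F]

/-- unitary transvections -/
def tU {n : ℕ} (σ : F →+* F) (u : Fin n → F) (c : F) : Matrix (Fin n) (Fin n) F :=
  1 + vecMulVec u (c • fun k => σ (u k))

theorem tU_uni {n : ℕ} {σ : F →+* F} (hσ : ∀ x, σ (σ x) = x) {u : Fin n → F} (hu : u ⬝ᵥ (fun k => σ (u k)) = 0) {c : F}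
    (hc : σ c = -c) : (tU σ u c)ᵀ * (tU σ u c).map σ = 1 := by
  have e1 : (tU σ u c)ᵀ = 1 + c • vecMulVec (fun k => σ (u k)) u := by
    ext i k
    simp [tU, vecMulVec_apply, Matrix.one_apply, eq_comm, mul_comm]
  have e2 : (tU σ u c).map σ = 1 - c • vecMulVec (fun k => σ (u k)) u := by
    ext i k
    by_cases h : i = k
    · simp [tU, vecMulVec_apply, h, hc, hσ]
      ring
    · simp [tU, vecMulVec_apply, h, hc, hσ]
      try ring
  rw [e1, e2]
  have e3 : vecMulVec (fun k => σ (u k)) u * vecMulVec (fun k => σ (u k)) u = 0 := by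
    rw [Matrix.vecMulVec_mul_vecMulVec, hu]
    ext i k
    simp [vecMulVec_apply]
  have e4 : ∀ N : Matrix (Fin n) (Fin n) F, N * N = 0 → (1 + c • N) * (1 - c • N) = 1 := by
    intro N hN
    have e5 : ∀ A : Matrix (Fin n) (Fin n) F, (1 + A) * (1 - A) = 1 - A * A := by
      intro A
      noncomm_ring
    rw [e5, Matrix.smul_mul, Matrix.mul_smul, hN, smul_zero, smul_zero, sub_zero]
  exact e4 _ e3

/-- the general block lemma -/
theorem diag_of_tU (h2 : (2 : F) ≠ 0) (h3 : (3 : F) = 0) {σ : F →+* F} {w : F} (hw : w ^ 4 = -1) (hσw : σ w = w ^ 3) {X : Matrix (Fin 4) (Fin 4) F}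
    (h1 : X * tU σ ![1, w, 0, 0] (w ^ 2) = tU σ ![1, w, 0, 0] (w ^ 2) * X)
    (h1' : X * tU σ ![1, -w, 0, 0] (w ^ 2) = tU σ ![1, -w, 0, 0] (w ^ 2) * X)
    (k1 : X * tU σ ![0, 0, 1, w] (w ^ 2) = tU σ ![0, 0, 1, w] (w ^ 2) * X)
    (k1' : X * tU σ ![0, 0, 1, -w] (w ^ 2) = tU σ ![0, 0, 1, -w] (w ^ 2) * X) :
    X = diagonal ![X 0 0, X 0 0, X 2 2, X 2 2] := by
  have hw0 : w ≠ 0 := by
    rintro rfl
    simp at hw
  have z : ∀ (m : ℕ) (y : F), 2 * w ^ m * y = 0 → y = 0 := by
    intro m y hy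
    exact (mul_eq_zero.1 hy).resolve_left (mul_ne_zero h2 (pow_ne_zero m hw0))
  have d : ∀ u : Fin 4 → F, X * tU σ u (w ^ 2) = tU σ u (w ^ 2) * X →
      X * vecMulVec u ((w ^ 2) • fun k => σ (u k)) = vecMulVec u ((w ^ 2) • fun k => σ (u k)) * X := by
    intro u h
    rw [tU, Matrix.mul_add, Matrix.add_mul, Matrix.mul_one, Matrix.one_mul] at h
    exact add_left_cancel h
  have a := d _ h1
  have a' := d _ h1'
  have b := d _ k1
  have b' := d _ k1'
  have a01 := ent a 0 1
  have a01' := ent a' 0 1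
  have a10 := ent a 1 0
  have a10' := ent a' 1 0
  have a02 := ent a 0 2
  have a02' := ent a' 0 2
  have a03 := ent a 0 3
  have a03' := ent a' 0 3
  have a20 := ent a 2 0
  have a20' := ent a' 2 0
  have a30 := ent a 3 0
  have a30' := ent a' 3 0
  have b23 := ent b 2 3
  have b23' := ent b' 2 3
  have b32 := ent b 3 2
  have b32' := ent b' 3 2
  simp [vecMulVec_apply, hσw] at a01 a01' a10 a10' a02 a02' a03 a03' a20 a20' a30 a30' b23 b23' b32 b32'
  have z01 : X 0 1 = 0 := z 2 _ (by linear_combination (a01 + a01') - 2 * w ^ 2 * X 0 1 * hw + 2 * w ^ 2 * X 0 1 * h3)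
  have z23 : X 2 3 = 0 := z 2 _ (by linear_combination (b23 + b23') - 2 * w ^ 2 * X 2 3 * hw + 2 * w ^ 2 * X 2 3 * h3)
  have z10 : X 1 0 = 0 := z 2 _ (by linear_combination 2 * (a10 + a10') + 4 * w ^ 2 * X 1 0 * hw - 2 * w ^ 2 * X 1 0 * h3)
  have z32 : X 3 2 = 0 := z 2 _ (by linear_combination 2 * (b32 + b32') + 4 * w ^ 2 * X 3 2 * hw - 2 * w ^ 2 * X 3 2 * h3)
  have z02 : X 0 2 = 0 := z 2 _ (by linear_combination -(a02 + a02'))
  have z12 : X 1 2 = 0 := z 5 _ (by linear_combination -(a02 - a02'))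
  have z03 : X 0 3 = 0 := z 2 _ (by linear_combination -(a03 + a03'))
  have z13 : X 1 3 = 0 := z 5 _ (by linear_combination -(a03 - a03'))
  have z20 : X 2 0 = 0 := z 2 _ (by linear_combination (a20 + a20'))
  have z21 : X 2 1 = 0 := z 3 _ (by linear_combination (a20 - a20'))
  have z30 : X 3 0 = 0 := z 2 _ (by linear_combination (a30 + a30'))
  have z31 : X 3 1 = 0 := z 3 _ (by linear_combination (a30 - a30'))
  have e01 : X 1 1 = X 0 0 := (sub_eq_zero.1 (z 5 (X 0 0 - X 1 1) (by linear_combination (a01 - a01')))).symm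
  have e23 : X 3 3 = X 2 2 := (sub_eq_zero.1 (z 5 (X 2 2 - X 3 3) (by linear_combination (b23 - b23')))).symm
  ext i k
  fin_cases i <;> fin_cases k <;>
    simp [z02, z12, z03, z13, z21, z20, z31, z30, z01, z10, z23, z32, e01, e23]

def mD (F : Type*) [Field F] (i : F) : Matrix (Fin 4) (Fin 4) F := diagonal ![i, -i, 1, 1]
def mD' (F : Type*) [Field F] (i : F) : Matrix (Fin 4) (Fin 4) F := diagonal ![1, 1, i, -i]

theorem mD_eq (i : F) : mD F i = !![i, 0, 0, 0; 0, -i, 0, 0; 0, 0, 1, 0; 0, 0, 0, 1] := by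
  ext a b
  fin_cases a <;> fin_cases b <;> simp [mD]

theorem mD'_eq (i : F) : mD' F i = !![1, 0, 0, 0; 0, 1, 0, 0; 0, 0, i, 0; 0, 0, 0, -i] := by
  ext a b
  fin_cases a <;> fin_cases b <;> simp [mD']

theorem diag_of_pd (h2 : (2 : F) ≠ 0) {i : F} (hi : i ^ 2 = -1) {X : Matrix (Fin 4) (Fin 4) F}
    (h1 : X * mP F = mP F * X) (h1' : X * mP' F = mP' F * X)
    (h3 : X * mD F i = mD F i * X) (h3' : X * mD' F i = mD' F i * X) : X = diagonal ![X 0 0, X 0 0, X 2 2, X 2 2] := by
  have hi0 : i ≠ 0 := by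
    rintro rfl
    simp at hi
  have i1 : i - 1 ≠ 0 := by
    intro h
    apply h2
    linear_combination hi - (i + 1) * h
  have i2 : i + 1 ≠ 0 := by
    intro h
    apply h2
    linear_combination hi - (i - 1) * h
  have i3 : 2 * i ≠ 0 := mul_ne_zero h2 hi0
  have cz : ∀ a b : Fin 4, X a b * (![i, -i, 1, 1] : Fin 4 → F) b = (![i, -i, 1, 1] : Fin 4 → F) a * X a b := by
    intro a b
    have := congrFun (congrFun h3 a) b
    rwa [mD, Matrix.mul_diagonal, Matrix.diagonal_mul] at this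
  have cz' : ∀ a b : Fin 4, X a b * (![1, 1, i, -i] : Fin 4 → F) b = (![1, 1, i, -i] : Fin 4 → F) a * X a b := by
    intro a b
    have := congrFun (congrFun h3' a) b
    rwa [mD', Matrix.mul_diagonal, Matrix.diagonal_mul] at this
  have z : ∀ {a c : F}, a ≠ 0 → a * c = 0 → c = 0 := fun ha h => (mul_eq_zero.1 h).resolve_left ha
  have c01 := cz 0 1
  have c10 := cz 1 0
  have c02 := cz 0 2
  have c03 := cz 0 3
  have c12 := cz 1 2
  have c13 := cz 1 3
  have c20 := cz 2 0
  have c21 := cz 2 1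
  have c30 := cz 3 0
  have c31 := cz 3 1
  have c23 := cz' 2 3
  have c32 := cz' 3 2
  have e01 := ent h1 0 1
  have e23 := ent h1' 2 3
  simp [mP, mP'] at c01 c10 c02 c03 c12 c13 c20 c21 c30 c31 c23 c32 e01 e23
  have z01 : X 0 1 = 0 := z i3 (by linear_combination -c01)
  have z10 : X 1 0 = 0 := z i3 (by linear_combination c10)
  have z23 : X 2 3 = 0 := z i3 (by linear_combination -c23)
  have z32 : X 3 2 = 0 := z i3 (by linear_combination c32)
  have z02 : X 0 2 = 0 := z i1 (by linear_combination -c02)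
  have z03 : X 0 3 = 0 := z i1 (by linear_combination -c03)
  have z12 : X 1 2 = 0 := z i2 (by linear_combination c12)
  have z13 : X 1 3 = 0 := z i2 (by linear_combination c13)
  have z20 : X 2 0 = 0 := z i1 (by linear_combination c20)
  have z30 : X 3 0 = 0 := z i1 (by linear_combination c30)
  have z21 : X 2 1 = 0 := z i2 (by linear_combination -c21)
  have z31 : X 3 1 = 0 := z i2 (by linear_combination -c31)
  ext i k
  fin_cases i <;> fin_cases k <;>
    simp [z02, z12, z03, z13, z21, z20, z31, z30, z01, z10, z23, z32, ← e01, ← e23]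

/-! ### The group -/

variable [Fintype F]

theorem three_zero' (hF : Fintype.card F = 9) : (3 : F) = 0 := by
  have := Nat.cast_card_eq_zero F
  rw [hF] at this
  have h9 : (3 : F) * 3 = 0 := by
    rw [← this]
    norm_num
  rcases mul_eq_zero.1 h9 with h | h <;> exact h

theorem exists_w (hF : Fintype.card F = 9) (h2 : (2 : F) ≠ 0) : ∃ w : F, w ^ 4 = -1 := by
  have hc : ringChar F ≠ 2 := by
    intro h
    apply h2
    have := ringChar.Nat.cast_ringChar (R := F)
    rw [h] at this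
    exact_mod_cast this
  obtain ⟨w, hw⟩ := FiniteField.exists_nonsquare hc
  have hw0 : w ≠ 0 := by
    rintro rfl
    exact hw (IsSquare.zero)
  refine ⟨w, ?_⟩
  rcases FiniteField.pow_dichotomy hc hw0 with h | h
  · exact absurd ((FiniteField.isSquare_iff hc hw0).2 h) hw
  · rw [hF] at h
    exact h

set_option maxHeartbeats 1000000 in
theorem both_psu4 (hF : Fintype.card F = 9) : Both (PSU 4 F 3) := by
  have h3 : (3 : F) = 0 := three_zero' hF
  have h2 : (2 : F) ≠ 0 := two_ne h3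
  have hp3 : Fact (Nat.Prime 3) := ⟨by norm_num⟩
  have hch : CharP F 3 := by
    have h4 : ringChar F = 3 := by
      have h5 : ringChar F ∣ 3 := ringChar.dvd (by exact_mod_cast h3)
      rcases (Nat.dvd_prime (by norm_num)).1 h5 with h6 | h6
      · exfalso
        have := ringChar.Nat.cast_ringChar (R := F)
        rw [h6] at this
        exact one_ne_zero (α := F) (by exact_mod_cast this)
      · exact h6
    rw [← h4]
    exact ringChar.charP F
  let σ : F →+* F := frobenius F 3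
  have hσ : ∀ x, σ x = x ^ 3 := fun x => rfl
  have hσσ : ∀ x, σ (σ x) = x := by
    intro x
    rw [hσ, hσ, ← pow_mul, show 3 * 3 = Fintype.card F by rw [hF], FiniteField.pow_card]
  obtain ⟨w, hw⟩ := exists_w hF h2
  have hi : (w ^ 2) ^ 2 = -1 := by rw [← pow_mul]; exact hw
  have hσi : σ (w ^ 2) = -w ^ 2 := by
    rw [hσ]
    linear_combination w ^ 2 * hw
  have hw0 : w ≠ 0 := by
    rintro rfl
    simp at hw
  have hmem : ∀ A : SpecialLinearGroup (Fin 4) F, (A.1)ᵀ * A.1.map σ = 1 → A ∈ SU 4 F 3 := fun A hA =>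
    (Cfsg.Agent.H155.Unit.mem_SU_iff_matrix σ hσ A).2 hA
  let mk : ∀ A : Matrix (Fin 4) (Fin 4) F, A.det = 1 → Aᵀ * A.map σ = 1 → SU 4 F 3 := fun A h1 h2 => ⟨⟨A, h1⟩, hmem _ h2⟩
  let φ : SU 4 F 3 →* Matrix (Fin 4) (Fin 4) F := (slM 4 F).comp (SU 4 F 3).subtype
  have hφi : Function.Injective φ := fun x y h => Subtype.ext (Subtype.ext h)
  have hD : Dat φ := by
    refine dat_of hφi fun x hx => ?_
    obtain ⟨c, _, _, rfl⟩ := (Cfsg.Agent.LieClassical.SUBasic.mem_center_SU_iff (by rw [hF]; norm_num) (by norm_num) x).1 hx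
    refine ⟨c, ?_⟩
    show Matrix.diagonal (fun _ => c) = _
    ext i k
    simp [Matrix.diagonal_apply, Matrix.one_apply]
  -- the quaternion groups
  have uP : (mP F)ᵀ * (mP F).map σ = 1 := by
    ext i k
    fin_cases i <;> fin_cases k <;> simp [mP, Matrix.mul_apply, Fin.sum_univ_four]
  have uP' : (mP' F)ᵀ * (mP' F).map σ = 1 := by
    ext i k
    fin_cases i <;> fin_cases k <;> simp [mP', Matrix.mul_apply, Fin.sum_univ_four]
  have ii : w ^ 2 * w ^ 2 = -1 := by linear_combination hi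
  have uD : (mD F (w ^ 2))ᵀ * (mD F (w ^ 2)).map σ = 1 := by
    rw [mD, Matrix.diagonal_transpose, Matrix.diagonal_map (map_zero σ), Matrix.diagonal_mul_diagonal, ← Matrix.diagonal_one]
    congr 1
    funext i
    fin_cases i
    · simp only [Fin.zero_eta, Matrix.cons_val_zero, hσi]; linear_combination -ii
    · simp only [Fin.mk_one, Matrix.cons_val_one, Matrix.cons_val_zero, map_neg, hσi]; linear_combination -ii
    · simp
    · simp
  have uD' : (mD' F (w ^ 2))ᵀ * (mD' F (w ^ 2)).map σ = 1 := by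
    rw [mD', Matrix.diagonal_transpose, Matrix.diagonal_map (map_zero σ), Matrix.diagonal_mul_diagonal, ← Matrix.diagonal_one]
    congr 1
    funext i
    fin_cases i
    · simp
    · simp
    · show w ^ 2 * σ (w ^ 2) = 1
      rw [hσi]; linear_combination -ii
    · show -w ^ 2 * σ (-w ^ 2) = 1
      rw [map_neg, hσi]; linear_combination -ii
  have dD : (mD F (w ^ 2)).det = 1 := by
    rw [mD, Matrix.det_diagonal, Fin.prod_univ_four]
    simp
    linear_combination -ii
  have dD' : (mD' F (w ^ 2)).det = 1 := by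
    rw [mD', Matrix.det_diagonal, Fin.prod_univ_four]
    simp
    linear_combination -ii
  let p := mk (mP F) det_mP uP
  let p' := mk (mP' F) det_mP' uP'
  let j := mk (mD F (w ^ 2)) dD uD
  let j' := mk (mD' F (w ^ 2)) dD' uD'
  have hpjp : p * j * p = j := by
    apply hφi
    show mP F * mD F (w ^ 2) * mP F = mD F (w ^ 2)
    rw [mD_eq]
    ext i k
    fin_cases i <;> fin_cases k <;> simp [mP, Matrix.mul_apply, Fin.sum_univ_four]
  have hpjp' : p' * j' * p' = j' := by
    apply hφi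
    show mP' F * mD' F (w ^ 2) * mP' F = mD' F (w ^ 2)
    rw [mD'_eq]
    ext i k
    fin_cases i <;> fin_cases k <;> simp [mP', Matrix.mul_apply, Fin.sum_univ_four]
  have c1 : Commute p p' := by
    apply hφi
    show mP F * mP' F = mP' F * mP F
    ext i k
    fin_cases i <;> fin_cases k <;> simp [mP, mP', Matrix.mul_apply, Fin.sum_univ_four]
  have c2 : Commute p j' := by
    apply hφi
    show mP F * mD' F (w ^ 2) = mD' F (w ^ 2) * mP F
    rw [mD'_eq]
    ext i k
    fin_cases i <;> fin_cases k <;> simp [mP, Matrix.mul_apply, Fin.sum_univ_four]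
  have c3 : Commute j p' := by
    apply hφi
    show mD F (w ^ 2) * mP' F = mP' F * mD F (w ^ 2)
    rw [mD_eq]
    ext i k
    fin_cases i <;> fin_cases k <;> simp [mP', Matrix.mul_apply, Fin.sum_univ_four]
  have c4 : Commute j j' := by
    apply hφi
    show mD F (w ^ 2) * mD' F (w ^ 2) = mD' F (w ^ 2) * mD F (w ^ 2)
    rw [mD, mD', Matrix.diagonal_mul_diagonal, Matrix.diagonal_mul_diagonal]
    congr 1
    funext i
    ring
  have sq : ∀ A : Matrix (Fin 4) (Fin 4) F, ∀ d : Fin 4 → F, A * A = diagonal d → (∀ i, d i * d i = 1) → A ^ 4 = 1 := by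
    intro A d h hd
    have h5 : A ^ 4 = A * A * (A * A) := by noncomm_ring
    rw [h5, h, Matrix.diagonal_mul_diagonal, show (fun i => d i * d i) = fun _ => 1 from funext hd, Matrix.diagonal_one]
  have hp4 : p ^ 4 = 1 := by
    apply hφi
    rw [map_pow, map_one]
    show mP F ^ 4 = 1
    refine sq _ ![-1, -1, 1, 1] ?_ ?_
    · ext i k
      fin_cases i <;> fin_cases k <;> simp [mP, Matrix.mul_apply, Fin.sum_univ_four]
    · intro i
      fin_cases i <;> simp
  have hp4' : p' ^ 4 = 1 := by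
    apply hφi
    rw [map_pow, map_one]
    show mP' F ^ 4 = 1
    refine sq _ ![1, 1, -1, -1] ?_ ?_
    · ext i k
      fin_cases i <;> fin_cases k <;> simp [mP', Matrix.mul_apply, Fin.sum_univ_four]
    · intro i
      fin_cases i <;> simp
  have hj4 : j ^ 4 = 1 := by
    apply hφi
    rw [map_pow, map_one]
    show mD F (w ^ 2) ^ 4 = 1
    refine sq _ ![-1, -1, 1, 1] ?_ ?_
    · rw [mD, Matrix.diagonal_mul_diagonal]
      congr 1
      funext i
      fin_cases i <;> simp [ii]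
    · intro i
      fin_cases i <;> simp
  have hj4' : j' ^ 4 = 1 := by
    apply hφi
    rw [map_pow, map_one]
    show mD' F (w ^ 2) ^ 4 = 1
    refine sq _ ![1, 1, -1, -1] ?_ ?_
    · rw [mD', Matrix.diagonal_mul_diagonal]
      congr 1
      funext i
      fin_cases i <;> simp [ii]
    · intro i
      fin_cases i <;> simp
  -- the transvections
  have hw3 : σ w = w ^ 3 := hσ w
  have iso : ∀ u : Fin 4 → F, (u = ![1, w, 0, 0] ∨ u = ![1, -w, 0, 0] ∨ u = ![0, 0, 1, w] ∨ u = ![0, 0, 1, -w]) →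
      u ⬝ᵥ (fun k => σ (u k)) = 0 := by
    rintro u (rfl | rfl | rfl | rfl) <;> simp [dotProduct, Fin.sum_univ_four, hw3] <;> linear_combination hw
  have uT : ∀ u : Fin 4 → F, u ⬝ᵥ (fun k => σ (u k)) = 0 → (tU σ u (w ^ 2))ᵀ * (tU σ u (w ^ 2)).map σ = 1 := fun u hu =>
    tU_uni hσσ hu hσi
  have dT : ∀ u : Fin 4 → F, u ⬝ᵥ (fun k => σ (u k)) = 0 → (tU σ u (w ^ 2)).det = 1 := by
    intro u hu
    rw [tU]
    apply det_one_add_vec
    rw [smul_dotProduct, dotProduct_comm, hu, smul_zero]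
  let t : ∀ u : Fin 4 → F, (u = ![1, w, 0, 0] ∨ u = ![1, -w, 0, 0] ∨ u = ![0, 0, 1, w] ∨ u = ![0, 0, 1, -w]) → SU 4 F 3 :=
    fun u hu => mk (tU σ u (w ^ 2)) (dT u (iso u hu)) (uT u (iso u hu))
  have ht1 : ∀ u hu, φ (t u hu) - 1 = vecMulVec u ((w ^ 2) • fun k => σ (u k)) := by
    intro u hu
    show tU σ u (w ^ 2) - 1 = _
    rw [tU, add_sub_cancel_left]
  have dz : (diagonal (![1, 1, -1, -1] : Fin 4 → F)).det = 1 := by simp [Fin.prod_univ_four]
  have uz : (diagonal (![1, 1, -1, -1] : Fin 4 → F))ᵀ * (diagonal (![1, 1, -1, -1] : Fin 4 → F)).map σ = 1 := by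
    rw [Matrix.diagonal_transpose, Matrix.diagonal_map (map_zero σ), Matrix.diagonal_mul_diagonal, ← Matrix.diagonal_one]
    congr 1
    funext i
    fin_cases i <;> simp
  refine both_of_dat hD h2 h3 ?_ (z₀ := mk _ dz uz)
    (isPGroup_closure hp4 hj4 (quat hpjp) hp4' hj4' (quat hpjp') c1 c2 c3 c4) ?_ ?_
    (T := {x | ∃ u hu, x = t u hu}) ?_ ?_ ?_ ?_ ?_ ?_
  · push_cast
    intro h
    apply h2
    have : (4 : F) = 0 := by linear_combination -h
    linear_combination 2 * h3 - this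
  · rintro e (rfl | rfl | rfl | rfl)
    · show (mP F).trace ≠ 0
      simpa [mP, Matrix.trace, Fin.sum_univ_four, one_add_one_eq_two] using h2
    · show (mD F (w ^ 2)).trace ≠ 0
      simpa [mD, Matrix.trace, Fin.sum_univ_four, one_add_one_eq_two] using h2
    · show (mP' F).trace ≠ 0
      simpa [mP', Matrix.trace, Fin.sum_univ_four, one_add_one_eq_two] using h2
    · show (mD' F (w ^ 2)).trace ≠ 0
      simpa [mD', Matrix.trace, Fin.sum_univ_four, one_add_one_eq_two] using h2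
  · intro x hx hs
    exact end_four (diag_of_pd h2 hi (hx p (Or.inl rfl)) (hx p' (Or.inr (Or.inr (Or.inl rfl))))
      (hx j (Or.inr (Or.inl rfl))) (hx j' (Or.inr (Or.inr (Or.inr rfl))))) hs
  · exact ⟨_, _, Or.inl rfl, rfl⟩
  · rintro x ⟨u, hu, rfl⟩
    apply hφi
    show diagonal ![1, 1, -1, -1] * tU σ u (w ^ 2) = tU σ u (w ^ 2) * diagonal ![1, 1, -1, -1]
    rw [tU, Matrix.mul_add, Matrix.add_mul, Matrix.mul_one, Matrix.one_mul]
    congr 1
    ext a b
    rw [Matrix.diagonal_mul, Matrix.mul_diagonal, vecMulVec_apply]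
    rcases hu with rfl | rfl | rfl | rfl <;> fin_cases a <;> fin_cases b <;> simp
  · rintro x ⟨u, hu, rfl⟩
    rw [ht1 u hu]
    exact r1_vec _ _
  · rintro x ⟨u, hu, rfl⟩
    rw [ht1 u hu, Matrix.trace_vecMulVec, dotProduct_smul, iso u hu, smul_zero]
  · rintro x ⟨u, hu, rfl⟩ h
    have h5 : vecMulVec u ((w ^ 2) • fun k => σ (u k)) = 0 := by
      rw [← ht1 u hu, h, map_one, sub_self]
    rcases Matrix.vecMulVec_eq_zero.1 h5 with h6 | h6
    · have h7 := congrFun h6 0
      have h8 := congrFun h6 2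
      rcases hu with rfl | rfl | rfl | rfl <;> simp at h7 h8
    · have h7 := congrFun h6 0
      have h8 := congrFun h6 2
      rcases hu with rfl | rfl | rfl | rfl <;> simp [hw0] at h7 h8
  · intro x hx hs
    have w0 : ∀ u hu, φ x * tU σ u (w ^ 2) = tU σ u (w ^ 2) * φ x := fun u hu => hx (t u hu) ⟨u, hu, rfl⟩
    have w1 := w0 ![1, w, 0, 0] (Or.inl rfl)
    have w2 := w0 ![1, -w, 0, 0] (Or.inr (Or.inl rfl))
    have w3 := w0 ![0, 0, 1, w] (Or.inr (Or.inr (Or.inl rfl)))
    have w4 := w0 ![0, 0, 1, -w] (Or.inr (Or.inr (Or.inr rfl)))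
    have w5 := diag_of_tU (X := φ x) h2 h3 hw hw3 w1 w2 w3 w4
    exact end_four w5 hs

end uni

end Cfsg.Agent.H176.Tall
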